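import Groth.Agent.Lib.SplitRibbon.Main
import Groth.Prelude.Def_ClSub2
import Mathlib.Geometry.RingedSpace.LocallyRingedSpace

/-!
# A split square-zero thickening is determined by its conormal module
-/

set_option autoImplicit false
set_option linter.style.haveILetI false
noncomputable section
universe u

open CategoryTheory CategoryTheory.Limits AlgebraicGeometry Opposite TopologicalSpace

namespace Groth.Agent.H68.RibbonUniq

open Groth.Agent.Lib

/-- A scheme with a square-zero ideal, the inclusion of `D` and a retraction to `D`. -/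
structure Data (D : Scheme.{u}) where
  C : Scheme.{u}
  I : C.IdealSheafData
  hI : I ^ 2 = ⊥
  φ : I.subscheme ≅ D
  r : C ⟶ D
  hr : (φ.inv ≫ I.subschemeι) ≫ r = 𝟙 D

variable {D : Scheme.{u}} (S S' : Data D)

namespace Data

/-- The inclusion. -/
abbrev i : D ⟶ S.C := S.φ.inv ≫ S.I.subschemeι

theorem i_surjective : Function.Surjective S.i := fun x => by
  obtain ⟨y, rfl⟩ := SqZeroMod.subschemeι_surjective S.I S.hI x
  exact ⟨S.φ.hom y, by rw [← Scheme.Hom.comp_apply, Iso.hom_inv_id_assoc]⟩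

theorem r_i (z : D) : S.r (S.i z) = z := by
  rw [← Scheme.Hom.comp_apply, S.hr]
  rfl

theorem i_r (x : S.C) : S.i (S.r x) = x := by
  obtain ⟨z, rfl⟩ := S.i_surjective x
  rw [S.r_i]

theorem pre_i (V : D.Opens) : S.i ⁻¹ᵁ (S.r ⁻¹ᵁ V) = V := by
  rw [← Scheme.Hom.comp_preimage, S.hr, Scheme.Hom.id_preimage]

theorem pre_r (U : S.C.Opens) : S.r ⁻¹ᵁ (S.i ⁻¹ᵁ U) = U :=
  Opens.ext (Set.ext fun x => by show S.i (S.r x) ∈ U ↔ x ∈ U; rw [S.i_r])

/-- Restriction to `D`. -/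
def π (V : D.Opens) : Γ(S.C, S.r ⁻¹ᵁ V) →+* Γ(D, V) :=
  (S.i.appLE (S.r ⁻¹ᵁ V) V (S.pre_i V).ge).hom

theorem π_r (V : D.Opens) (a : Γ(D, V)) : S.π V (S.r.app V a) = a := by
  have h : S.r.app V ≫ S.i.appLE (S.r ⁻¹ᵁ V) V (S.pre_i V).ge = 𝟙 _ := by
    rw [Scheme.Hom.app_eq_appLE, Scheme.Hom.appLE_comp_appLE]
    have h2 : ∀ (g : D ⟶ D) (hg : g = 𝟙 D) (e : V ≤ g ⁻¹ᵁ V), g.appLE V V e = 𝟙 _ := by
      rintro g rfl e
      simp only [Scheme.Hom.appLE, Scheme.Hom.id_app]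
      exact (Category.id_comp _).trans (D.presheaf.map_id _)
    exact h2 _ S.hr _
  exact ConcreteCategory.congr_hom h a

theorem π_eq_zero_iff (V : D.Opens) (t : Γ(S.C, S.r ⁻¹ᵁ V)) :
    S.π V t = 0 ↔ S.I.subschemeι.app (S.r ⁻¹ᵁ V) t = 0 := by
  have h1 : S.π V t = (S.i.app (S.r ⁻¹ᵁ V) ≫ D.presheaf.map (homOfLE (S.pre_i V).ge).op) t := rfl
  haveI : IsIso (D.presheaf.map (homOfLE (S.pre_i V).ge).op) := by
    rw [show homOfLE (S.pre_i V).ge = eqToHom (S.pre_i V).symm from Subsingleton.elim _ _]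
    infer_instance
  rw [h1, ConcreteCategory.comp_apply,
    map_eq_zero_iff _ (ConcreteCategory.bijective_of_isIso _).1]
  show S.φ.inv.app _ (S.I.subschemeι.app _ t) = 0 ↔ _
  rw [map_eq_zero_iff _ (ConcreteCategory.bijective_of_isIso _).1]

/-- The pushed forward ideal. -/
abbrev K : D.Modules := (Scheme.Modules.pushforward S.r).obj (_root_.ClSub.idealMod S.I)

/-- Sections of the ideal as functions. -/
def j (V : D.Opens) : Γ(S.K, V) →+ Γ(S.C, S.r ⁻¹ᵁ V) :=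
  ((_root_.ClSub.idealModι S.I).app (S.r ⁻¹ᵁ V)).hom

theorem j_injective (V : D.Opens) : Function.Injective (S.j V) :=
  ClSub.Sections.idealModι_app_injective S.I _

theorem j_smul (V : D.Opens) (a : Γ(D, V)) (m : Γ(S.K, V)) : S.j V (a • m) = S.r.app V a * S.j V m :=
  Scheme.Modules.Hom.app_smul (_root_.ClSub.idealModι S.I) _ _

theorem π_j (V : D.Opens) (m : Γ(S.K, V)) : S.π V (S.j V m) = 0 :=
  (S.π_eq_zero_iff V _).2 ((ClSub.Sections.mem_range_idealModι_app_iff S.I _ _).1 ⟨m, rfl⟩)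

theorem exists_j (V : D.Opens) (t : Γ(S.C, S.r ⁻¹ᵁ V)) :
    ∃ m : Γ(S.K, V), S.j V m = t - S.r.app V (S.π V t) := by
  refine (ClSub.Sections.mem_range_idealModι_app_iff S.I _ _).2 ?_
  rw [← S.π_eq_zero_iff, map_sub, S.π_r, sub_self]

theorem j_mul (V : D.Opens) (m n : Γ(S.K, V)) : S.j V m * S.j V n = 0 := by
  refine TopCat.Sheaf.eq_of_locally_eq' S.C.sheaf
    (fun W : {W : S.C.affineOpens // W.1 ≤ S.r ⁻¹ᵁ V} => W.1.1) (S.r ⁻¹ᵁ V) (fun W => homOfLE W.2)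
    (fun z hz => ?_) _ _ fun W => ?_
  · obtain ⟨W, hW, hzW, hWU⟩ := exists_isAffineOpen_mem_and_subset (x := z) (U := S.r ⁻¹ᵁ V) hz
    exact Opens.mem_iSup.2 ⟨⟨⟨W, hW⟩, hWU⟩, hzW⟩
  · have hmem : ∀ k : Γ(S.K, V), S.C.presheaf.map (homOfLE W.2).op (S.j V k) ∈ S.I.ideal W.1 := fun k =>
      (ClSub.Sections.mem_range_idealModι_app_affine_iff S.I W.1 _).1
        ⟨(_root_.ClSub.idealMod S.I).presheaf.map (homOfLE W.2).op k,
          ConcreteCategory.congr_hom ((_root_.ClSub.idealModι S.I).mapPresheaf.naturality (homOfLE W.2).op) k⟩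
    show S.C.presheaf.map _ (_ * _) = S.C.presheaf.map _ 0
    rw [map_mul, map_zero]
    have h2 := Ideal.mul_mem_mul (hmem m) (hmem n)
    rw [← pow_two, ← Pi.pow_apply, ← Scheme.IdealSheafData.ideal_pow, S.hI,
      Scheme.IdealSheafData.ideal_bot] at h2
    exact (Submodule.mem_bot _).1 h2

/-- The nilpotent part of a section. -/
def μ (V : D.Opens) (t : Γ(S.C, S.r ⁻¹ᵁ V)) : Γ(S.K, V) := (S.exists_j V t).choose

theorem j_μ (V : D.Opens) (t : Γ(S.C, S.r ⁻¹ᵁ V)) : S.j V (S.μ V t) = t - S.r.app V (S.π V t) :=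
  (S.exists_j V t).choose_spec

theorem decomp (V : D.Opens) (t : Γ(S.C, S.r ⁻¹ᵁ V)) : S.r.app V (S.π V t) + S.j V (S.μ V t) = t := by
  rw [j_μ]; abel

theorem μ_eq (V : D.Opens) {t : Γ(S.C, S.r ⁻¹ᵁ V)} {a : Γ(D, V)} {m : Γ(S.K, V)}
    (h : S.r.app V a + S.j V m = t) : S.π V t = a ∧ S.μ V t = m := by
  have h1 : S.π V t = a := by rw [← h, map_add, π_r, π_j, add_zero]
  refine ⟨h1, S.j_injective V ?_⟩
  rw [j_μ, h1, ← h, add_sub_cancel_left]

theorem res_r {V W : D.Opens} (h : W ≤ V) (a : Γ(D, V)) :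
    S.C.presheaf.map (homOfLE (S.r.preimage_mono h)).op (S.r.app V a) =
      S.r.app W (D.presheaf.map (homOfLE h).op a) :=
  (ConcreteCategory.congr_hom (S.r.naturality (homOfLE h).op) a).symm

theorem res_j {V W : D.Opens} (h : W ≤ V) (m : Γ(S.K, V)) :
    S.C.presheaf.map (homOfLE (S.r.preimage_mono h)).op (S.j V m) =
      S.j W (S.K.presheaf.map (homOfLE h).op m) :=
  (ConcreteCategory.congr_hom ((_root_.ClSub.idealModι S.I).mapPresheaf.naturality
    (homOfLE (S.r.preimage_mono h)).op) m).symm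

end Data

variable {S S'} (Θ : S'.K ⟶ S.K)

/-- The transported section. -/
def eFun (V : D.Opens) (t : Γ(S'.C, S'.r ⁻¹ᵁ V)) : Γ(S.C, S.r ⁻¹ᵁ V) :=
  S.r.app V (S'.π V t) + S.j V (Θ.app V (S'.μ V t))

theorem eFun_eq (V : D.Opens) {t : Γ(S'.C, S'.r ⁻¹ᵁ V)} {a : Γ(D, V)} {m : Γ(S'.K, V)}
    (h : S'.r.app V a + S'.j V m = t) : eFun Θ V t = S.r.app V a + S.j V (Θ.app V m) := by
  obtain ⟨h1, h2⟩ := S'.μ_eq V h
  rw [eFun, h1, h2]

/-- The comparison of rings of sections. -/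
def eHom (V : D.Opens) : Γ(S'.C, S'.r ⁻¹ᵁ V) →+* Γ(S.C, S.r ⁻¹ᵁ V) where
  toFun := eFun Θ V
  map_one' := by
    rw [eFun_eq Θ V (a := 1) (m := 0) (by rw [map_one, map_zero, add_zero]), map_one, map_zero, map_zero, add_zero]
  map_zero' := by
    rw [eFun_eq Θ V (a := 0) (m := 0) (by rw [map_zero, map_zero, add_zero]), map_zero, map_zero, map_zero, add_zero]
  map_add' x y := by
    rw [eFun_eq Θ V (t := x + y) (a := S'.π V x + S'.π V y) (m := S'.μ V x + S'.μ V y) (by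
      rw [map_add, map_add, add_add_add_comm, S'.decomp, S'.decomp])]
    simp only [eFun, map_add]
    abel
  map_mul' x y := by
    have hx := S'.decomp V x
    have hy := S'.decomp V y
    rw [eFun_eq Θ V (t := x * y) (a := S'.π V x * S'.π V y)
      (m := S'.π V x • S'.μ V y + S'.π V y • S'.μ V x) (by
      conv_rhs => rw [← hx, ← hy]
      rw [map_mul, map_add, S'.j_smul, S'.j_smul, add_mul, mul_add, mul_add, S'.j_mul]
      ring)]
    simp only [eFun]
    rw [map_mul, map_add (Θ.app V).hom, Scheme.Modules.Hom.app_smul, Scheme.Modules.Hom.app_smul, map_add,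
      S.j_smul, S.j_smul, add_mul, mul_add, mul_add, S.j_mul]
    ring

theorem π_eHom (V : D.Opens) (t : Γ(S'.C, S'.r ⁻¹ᵁ V)) : S.π V (eHom Θ V t) = S'.π V t := by
  show S.π V (_ + _) = _
  rw [map_add, S.π_r, S.π_j, add_zero]

theorem eHom_r (V : D.Opens) (a : Γ(D, V)) : eHom Θ V (S'.r.app V a) = S.r.app V a := by
  refine (eFun_eq Θ V (a := a) (m := 0) (by rw [map_zero, add_zero])).trans ?_
  rw [map_zero, map_zero, add_zero]

theorem eHom_res {V W : D.Opens} (h : W ≤ V) (t : Γ(S'.C, S'.r ⁻¹ᵁ V)) :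
    eHom Θ W (S'.C.presheaf.map (homOfLE (S'.r.preimage_mono h)).op t) =
      S.C.presheaf.map (homOfLE (S.r.preimage_mono h)).op (eHom Θ V t) := by
  have h1 : S'.r.app W (D.presheaf.map (homOfLE h).op (S'.π V t)) +
      S'.j W (S'.K.presheaf.map (homOfLE h).op (S'.μ V t)) =
      S'.C.presheaf.map (homOfLE (S'.r.preimage_mono h)).op t := by
    conv_rhs => rw [← S'.decomp V t]
    rw [map_add, S'.res_r h, S'.res_j h]
  refine (eFun_eq Θ W h1).trans ?_
  show _ = S.C.presheaf.map _ (_ + _)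
  rw [map_add, S.res_r h, S.res_j h]
  congr 2
  exact ConcreteCategory.congr_hom (Θ.mapPresheaf.naturality (homOfLE h).op) _

theorem eHom_eHom (Θ' : S.K ⟶ S'.K) (hΘ : Θ ≫ Θ' = 𝟙 _) (V : D.Opens) (t : Γ(S'.C, S'.r ⁻¹ᵁ V)) :
    eHom Θ' V (eHom Θ V t) = t := by
  refine (eFun_eq Θ' V (a := S'.π V t) (m := Θ.app V (S'.μ V t)) rfl).trans ?_
  rw [← ConcreteCategory.comp_apply, ← Scheme.Modules.Hom.comp_app, hΘ, Scheme.Modules.Hom.id_app]
  exact S'.decomp V t

variable (S S') in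
/-- The homeomorphism. -/
def homeo : S.C.toPresheafedSpace.carrier ≅ S'.C.toPresheafedSpace.carrier where
  hom := S.r.base ≫ S'.i.base
  inv := S'.r.base ≫ S.i.base
  hom_inv_id := by
    ext x
    show S.i (S'.r (S'.i (S.r x))) = x
    rw [S'.r_i, S.i_r]
  inv_hom_id := by
    ext x
    show S'.i (S.r (S.i (S'.r x))) = x
    rw [S.r_i, S'.i_r]

/-- The ring iso on an open of `D`. -/
def eIso (Θ : S'.K ≅ S.K) (V : D.Opens) : S'.C.presheaf.obj (op (S'.r ⁻¹ᵁ V)) ≅ S.C.presheaf.obj (op (S.r ⁻¹ᵁ V)) where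
  hom := CommRingCat.ofHom (eHom Θ.hom V)
  inv := CommRingCat.ofHom (eHom Θ.inv V)
  hom_inv_id := CommRingCat.hom_ext (RingHom.ext fun t => eHom_eHom _ _ Θ.hom_inv_id V t)
  inv_hom_id := CommRingCat.hom_ext (RingHom.ext fun t => eHom_eHom _ _ Θ.inv_hom_id V t)

theorem eIso_nat (Θ : S'.K ≅ S.K) {V W : D.Opens} (h : W ≤ V) :
    S'.C.presheaf.map (homOfLE (S'.r.preimage_mono h)).op ≫ (eIso Θ W).hom =
      (eIso Θ V).hom ≫ S.C.presheaf.map (homOfLE (S.r.preimage_mono h)).op :=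
  CommRingCat.hom_ext (RingHom.ext fun t => eHom_res _ h t)

/-- Sections over an open of `C'`. -/
def appIso (Θ : S'.K ≅ S.K) (U : S'.C.Opens) :
    S'.C.presheaf.obj (op U) ≅ S.C.presheaf.obj (op (S.r ⁻¹ᵁ (S'.i ⁻¹ᵁ U))) :=
  S'.C.presheaf.mapIso (eqToIso (congrArg op (S'.pre_r U).symm)) ≪≫ eIso Θ (S'.i ⁻¹ᵁ U)

theorem appIso_nat (Θ : S'.K ≅ S.K) {U U' : S'.C.Opens} (k : U' ⟶ U) :
    S'.C.presheaf.map k.op ≫ (appIso Θ U').hom = (appIso Θ U).hom ≫
      S.C.presheaf.map (homOfLE (S.r.preimage_mono (S'.i.preimage_mono k.le))).op := by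
  rw [appIso, appIso, Iso.trans_hom, Iso.trans_hom, Functor.mapIso_hom, Functor.mapIso_hom,
    ← Category.assoc, ← Functor.map_comp, Category.assoc, ← eIso_nat Θ (S'.i.preimage_mono k.le),
    ← Category.assoc, ← Functor.map_comp]
  rfl

/-- The isomorphism of presheafed spaces. -/
def psIso (Θ : S'.K ≅ S.K) : S.C.toPresheafedSpace ≅ S'.C.toPresheafedSpace :=
  PresheafedSpace.isoOfComponents (homeo S S')
    (NatIso.ofComponents (fun U => (appIso Θ U.unop).symm) fun {U U'} k => by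
      rw [Iso.symm_hom, Iso.symm_hom, Iso.eq_inv_comp, ← Category.assoc, Iso.comp_inv_eq]
      exact (appIso_nat Θ k.unop).symm)

/-- The isomorphism of schemes. -/
def iso (Θ : S'.K ≅ S.K) : S.C ≅ S'.C :=
  Scheme.fullyFaithfulForgetToLocallyRingedSpace.preimageIso
    (LocallyRingedSpace.isoOfSheafedSpaceIso
      ((InducedCategory.isoMk (psIso Θ) : S.C.toSheafedSpace ≅ S'.C.toSheafedSpace)))

theorem iso_app (Θ : S'.K ≅ S.K) (U : S'.C.Opens) : (iso Θ).hom.app U = (appIso Θ U).hom := rfl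

theorem iso_base (Θ : S'.K ≅ S.K) (x : S.C) : (iso Θ).hom x = S'.i (S.r x) := rfl

theorem r_eIso (Θ : S'.K ≅ S.K) (V : D.Opens) : S'.r.app V ≫ (eIso Θ V).hom = S.r.app V :=
  CommRingCat.hom_ext (RingHom.ext fun a => eHom_r _ V a)

theorem eIso_i (Θ : S'.K ≅ S.K) (V : D.Opens) :
    (eIso Θ V).hom ≫ S.i.appLE (S.r ⁻¹ᵁ V) V (S.pre_i V).ge = S'.i.appLE (S'.r ⁻¹ᵁ V) V (S'.pre_i V).ge :=
  CommRingCat.hom_ext (RingHom.ext fun a => π_eHom _ V a)

theorem appIso_pre (Θ : S'.K ≅ S.K) (V : D.Opens) :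
    (appIso Θ (S'.r ⁻¹ᵁ V)).hom = (eIso Θ V).hom ≫
      S.C.presheaf.map (homOfLE (S.r.preimage_mono (S'.pre_i V).le)).op :=
  eIso_nat Θ (S'.pre_i V).le

theorem iso_r (Θ : S'.K ≅ S.K) : (iso Θ).hom ≫ S'.r = S.r := by
  refine Scheme.Hom.ext (TopCat.hom_ext (ContinuousMap.ext fun x => by
    show ((iso Θ).hom ≫ S'.r) x = S.r x
    rw [Scheme.Hom.comp_apply, iso_base, S'.r_i])) fun V => ?_
  rw [Scheme.Hom.comp_app, iso_app, appIso_pre]
  refine (congrArg (· ≫ _) ((Category.assoc _ _ _).symm.trans (congrArg (· ≫ _) (r_eIso Θ V)))).trans ?_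
  refine (Category.assoc _ _ _).trans ((congrArg (S.r.app V ≫ ·) ?_).trans (Category.comp_id _))
  refine (S.C.presheaf.map_comp _ _).symm.trans ?_
  exact (congrArg S.C.presheaf.map (Subsingleton.elim _ (𝟙 _))).trans (S.C.presheaf.map_id _)

theorem i_iso (Θ : S'.K ≅ S.K) : S.i ≫ (iso Θ).hom = S'.i := by
  refine Scheme.Hom.ext (TopCat.hom_ext (ContinuousMap.ext fun z => by
    show (S.i ≫ (iso Θ).hom) z = S'.i z
    rw [Scheme.Hom.comp_apply, iso_base, S.r_i])) fun U => ?_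
  rw [Scheme.Hom.comp_app, iso_app, appIso, Iso.trans_hom]
  refine (Category.assoc _ _ _).trans ((Category.assoc _ _ _).trans ?_)
  refine (congrArg (_ ≫ ·) (eIso_i Θ (S'.i ⁻¹ᵁ U))).trans ?_
  rw [Functor.mapIso_hom, eqToIso.hom,
    show (eqToHom (congrArg op (S'.pre_r U).symm)) = (homOfLE (S'.pre_r U).le).op from Subsingleton.elim _ _,
    Scheme.Hom.map_appLE, ← Scheme.Hom.app_eq_appLE]

/-- The pushed forward ideal is the conormal module. -/
def conormalIso (S : Data D) : (Scheme.Modules.pullback S.i).obj (_root_.ClSub.idealMod S.I) ≅ S.K :=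
  haveI : IsIso ((Scheme.Modules.pullbackPushforwardAdjunction S.i).unit.app (_root_.ClSub.idealMod S.I)) :=
    SqZeroMod.isIso_unit_of_killed S.i S.i_surjective
      (SplitRibbon.killed_comp S.φ.inv S.I.subschemeι (SqZeroMod.killed_idealMod S.I S.hI))
  ((Scheme.Modules.pushforwardId D).app _).symm ≪≫
    (Scheme.Modules.pushforwardCongr S.hr.symm).app _ ≪≫ ((Scheme.Modules.pushforwardComp S.i S.r).app _).symm ≪≫
    (Scheme.Modules.pushforward S.r).mapIso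
      (asIso ((Scheme.Modules.pullbackPushforwardAdjunction S.i).unit.app _)).symm

end Groth.Agent.H68.RibbonUniq
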